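import Mathlib.CategoryTheory.Monoidal.Braided.Basic
import Mathlib.CategoryTheory.Monoidal.NaturalTransformation
import Mathlib.CategoryTheory.Groupoid
import Mathlib.CategoryTheory.Equivalence
import Mathlib.CategoryTheory.Whiskering

/-!
# The free Picard category on a symmetric monoidal groupoid

Objects are formal expressions in `⊗`, the unit and formal inverses; morphisms are formal
composites modulo the axioms of a Picard category and of a symmetric lax monoidal functor.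
-/

set_option autoImplicit false

universe v v' u u'

open CategoryTheory MonoidalCategory
open Functor.LaxMonoidal (μ ε)

noncomputable section

namespace Groth.Agent.PicCat

/-- formal objects -/
inductive Obj (A : Type u) : Type u
  | of (a : A)
  | unit
  | tensor (X Y : Obj A)
  | inv (X : Obj A)

variable {A : Type u} [Category.{v} A] [MonoidalCategory A]

/-- formal morphisms -/
inductive Hom : Obj A → Obj A → Type (max u v)
  | id (X : Obj A) : Hom X X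
  | comp {X Y Z : Obj A} (f : Hom X Y) (g : Hom Y Z) : Hom X Z
  | sym {X Y : Obj A} (f : Hom X Y) : Hom Y X
  | wl (X : Obj A) {Y Z : Obj A} (f : Hom Y Z) : Hom (X.tensor Y) (X.tensor Z)
  | wr {X Y : Obj A} (f : Hom X Y) (Z : Obj A) : Hom (X.tensor Z) (Y.tensor Z)
  | assoc (X Y Z : Obj A) : Hom ((X.tensor Y).tensor Z) (X.tensor (Y.tensor Z))
  | lu (X : Obj A) : Hom (Obj.unit.tensor X) X
  | ru (X : Obj A) : Hom (X.tensor .unit) X
  | braid (X Y : Obj A) : Hom (X.tensor Y) (Y.tensor X)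
  | ev (X : Obj A) : Hom (X.tensor X.inv) .unit
  | of {a b : A} (f : a ⟶ b) : Hom (.of a) (.of b)
  | mul (a b : A) : Hom ((Obj.of a).tensor (.of b)) (.of (a ⊗ b))
  | one : Hom .unit (.of (𝟙_ A))

/-- formal tensor product of morphisms -/
abbrev Hom.tens {X₁ Y₁ X₂ Y₂ : Obj A} (f : Hom X₁ Y₁) (g : Hom X₂ Y₂) : Hom (X₁.tensor X₂) (Y₁.tensor Y₂) :=
  (f.wr X₂).comp (g.wl Y₁)

variable [BraidedCategory A]

/-- the relations -/
inductive Rel : ∀ {X Y : Obj A}, Hom X Y → Hom X Y → Prop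
  | refl {X Y} (f : Hom X Y) : Rel f f
  | symm {X Y} {f g : Hom X Y} : Rel f g → Rel g f
  | trans {X Y} {f g h : Hom X Y} : Rel f g → Rel g h → Rel f h
  | comp {X Y Z} {f f' : Hom X Y} {g g' : Hom Y Z} : Rel f f' → Rel g g' → Rel (f.comp g) (f'.comp g')
  | sym {X Y} {f f' : Hom X Y} : Rel f f' → Rel f.sym f'.sym
  | wl (X : Obj A) {Y Z} {f f' : Hom Y Z} : Rel f f' → Rel (f.wl X) (f'.wl X)
  | wr {X Y} {f f' : Hom X Y} (Z : Obj A) : Rel f f' → Rel (f.wr Z) (f'.wr Z)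
  | id_comp {X Y} (f : Hom X Y) : Rel ((Hom.id X).comp f) f
  | comp_id {X Y} (f : Hom X Y) : Rel (f.comp (Hom.id Y)) f
  | assoc' {X Y Z W} (f : Hom X Y) (g : Hom Y Z) (h : Hom Z W) : Rel ((f.comp g).comp h) (f.comp (g.comp h))
  | sym_comp {X Y} (f : Hom X Y) : Rel (f.sym.comp f) (Hom.id Y)
  | comp_sym {X Y} (f : Hom X Y) : Rel (f.comp f.sym) (Hom.id X)
  | wl_id (X Y : Obj A) : Rel ((Hom.id Y).wl X) (Hom.id _)
  | id_wr (X Y : Obj A) : Rel ((Hom.id X).wr Y) (Hom.id _)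
  | wl_comp (X : Obj A) {Y Z W} (f : Hom Y Z) (g : Hom Z W) : Rel ((f.comp g).wl X) ((f.wl X).comp (g.wl X))
  | comp_wr {Y Z W} (f : Hom Y Z) (g : Hom Z W) (X : Obj A) : Rel ((f.comp g).wr X) ((f.wr X).comp (g.wr X))
  | exchange {W X Y Z} (f : Hom W X) (g : Hom Y Z) : Rel ((g.wl W).comp (f.wr Z)) ((f.wr Y).comp (g.wl X))
  | assoc_nat {X₁ X₂ X₃ Y₁ Y₂ Y₃} (f₁ : Hom X₁ Y₁) (f₂ : Hom X₂ Y₂) (f₃ : Hom X₃ Y₃) :
      Rel (((f₁.tens f₂).tens f₃).comp (.assoc Y₁ Y₂ Y₃)) ((Hom.assoc X₁ X₂ X₃).comp (f₁.tens (f₂.tens f₃)))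
  | lu_nat {X Y} (f : Hom X Y) : Rel ((f.wl .unit).comp (.lu Y)) ((Hom.lu X).comp f)
  | ru_nat {X Y} (f : Hom X Y) : Rel ((f.wr .unit).comp (.ru Y)) ((Hom.ru X).comp f)
  | pentagon (W X Y Z : Obj A) :
      Rel (((Hom.assoc W X Y).wr Z).comp ((Hom.assoc W (X.tensor Y) Z).comp ((Hom.assoc X Y Z).wl W)))
        ((Hom.assoc (W.tensor X) Y Z).comp (Hom.assoc W X (Y.tensor Z)))
  | triangle (X Y : Obj A) : Rel ((Hom.assoc X .unit Y).comp ((Hom.lu Y).wl X)) ((Hom.ru X).wr Y)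
  | braid_nat_right (X : Obj A) {Y Z} (f : Hom Y Z) :
      Rel ((f.wl X).comp (.braid X Z)) ((Hom.braid X Y).comp (f.wr X))
  | braid_nat_left {X Y} (f : Hom X Y) (Z : Obj A) :
      Rel ((f.wr Z).comp (.braid Y Z)) ((Hom.braid X Z).comp (f.wl Z))
  | hexagon₁ (X Y Z : Obj A) :
      Rel ((Hom.assoc X Y Z).comp ((Hom.braid X (Y.tensor Z)).comp (.assoc Y Z X)))
        (((Hom.braid X Y).wr Z).comp ((Hom.assoc Y X Z).comp ((Hom.braid X Z).wl Y)))
  | hexagon₂ (X Y Z : Obj A) :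
      Rel ((Hom.assoc X Y Z).sym.comp ((Hom.braid (X.tensor Y) Z).comp (Hom.assoc Z X Y).sym))
        (((Hom.braid Y Z).wl X).comp ((Hom.assoc X Z Y).sym.comp ((Hom.braid X Z).wr Y)))
  | symmetry (X Y : Obj A) : Rel ((Hom.braid X Y).comp (.braid Y X)) (Hom.id _)
  | of_id (a : A) : Rel (Hom.of (𝟙 a)) (Hom.id _)
  | of_comp {a b c : A} (f : a ⟶ b) (g : b ⟶ c) : Rel (Hom.of (f ≫ g)) ((Hom.of f).comp (.of g))
  | mul_left {a b : A} (f : a ⟶ b) (c : A) :
      Rel (((Hom.of f).wr (.of c)).comp (.mul b c)) ((Hom.mul a c).comp (.of (f ▷ c)))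
  | mul_right {a b : A} (c : A) (f : a ⟶ b) :
      Rel (((Hom.of f).wl (.of c)).comp (.mul c b)) ((Hom.mul c a).comp (.of (c ◁ f)))
  | mul_assoc' (a b c : A) :
      Rel (((Hom.mul a b).wr (.of c)).comp ((Hom.mul (a ⊗ b) c).comp (.of (α_ a b c).hom)))
        ((Hom.assoc (.of a) (.of b) (.of c)).comp (((Hom.mul b c).wl (.of a)).comp (.mul a (b ⊗ c))))
  | one_left (a : A) :
      Rel (Hom.lu (.of a)) ((Hom.one.wr (.of a)).comp ((Hom.mul (𝟙_ A) a).comp (.of (λ_ a).hom)))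
  | one_right (a : A) :
      Rel (Hom.ru (.of a)) ((Hom.one.wl (.of a)).comp ((Hom.mul a (𝟙_ A)).comp (.of (ρ_ a).hom)))
  | mul_braid (a b : A) :
      Rel ((Hom.mul a b).comp (.of (β_ a b).hom)) ((Hom.braid (.of a) (.of b)).comp (.mul b a))

instance setoidHom (X Y : Obj A) : Setoid (Hom X Y) := ⟨Rel, ⟨Rel.refl, Rel.symm, Rel.trans⟩⟩

instance category : Category.{max u v} (Obj A) where
  Hom X Y := Quotient (setoidHom X Y)
  id X := ⟦Hom.id X⟧
  comp := Quotient.map₂ Hom.comp fun _ _ hf _ _ hg => Rel.comp hf hg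
  id_comp := by rintro X Y ⟨f⟩; exact Quotient.sound (Rel.id_comp f)
  comp_id := by rintro X Y ⟨f⟩; exact Quotient.sound (Rel.comp_id f)
  assoc := by rintro W X Y Z ⟨f⟩ ⟨g⟩ ⟨h⟩; exact Quotient.sound (Rel.assoc' f g h)

/-- the class of a formal morphism -/
abbrev cls {X Y : Obj A} (f : Hom X Y) : X ⟶ Y := ⟦f⟧

/-- a formal morphism as an isomorphism -/
def clsIso {X Y : Obj A} (f : Hom X Y) : X ≅ Y :=
  ⟨cls f, cls f.sym, Quotient.sound (Rel.comp_sym f), Quotient.sound (Rel.sym_comp f)⟩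

instance isGroupoid : IsGroupoid (Obj A) where
  all_isIso {X Y} f := by
    obtain ⟨f⟩ := f
    exact (clsIso f).isIso_hom

instance monoidalStruct : MonoidalCategoryStruct (Obj A) where
  tensorObj := Obj.tensor
  whiskerLeft X _ _ := Quotient.map (fun f => f.wl X) fun _ _ h => Rel.wl X h
  whiskerRight f Z := Quotient.map (fun g => g.wr Z) (fun _ _ h => Rel.wr Z h) f
  tensorHom := Quotient.map₂ Hom.tens fun _ _ h _ _ h' => Rel.comp (Rel.wr _ h) (Rel.wl _ h')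
  tensorUnit := .unit
  associator X Y Z := clsIso (.assoc X Y Z)
  leftUnitor X := clsIso (.lu X)
  rightUnitor X := clsIso (.ru X)

lemma exchange' {W X Y Z : Obj A} (f : W ⟶ X) (g : Y ⟶ Z) : W ◁ g ≫ f ▷ Z = f ▷ Y ≫ X ◁ g := by
  obtain ⟨f⟩ := f; obtain ⟨g⟩ := g; exact Quotient.sound (Rel.exchange f g)

lemma wl_comp' (X : Obj A) {Y Z W : Obj A} (f : Y ⟶ Z) (g : Z ⟶ W) : X ◁ (f ≫ g) = X ◁ f ≫ X ◁ g := by
  obtain ⟨f⟩ := f; obtain ⟨g⟩ := g; exact Quotient.sound (Rel.wl_comp X f g)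

lemma comp_wr' {Y Z W : Obj A} (f : Y ⟶ Z) (g : Z ⟶ W) (X : Obj A) : (f ≫ g) ▷ X = f ▷ X ≫ g ▷ X := by
  obtain ⟨f⟩ := f; obtain ⟨g⟩ := g; exact Quotient.sound (Rel.comp_wr f g X)

lemma tens_def {X₁ Y₁ X₂ Y₂ : Obj A} (f : X₁ ⟶ Y₁) (g : X₂ ⟶ Y₂) : f ⊗ₘ g = f ▷ X₂ ≫ Y₁ ◁ g := by
  obtain ⟨f⟩ := f; obtain ⟨g⟩ := g; rfl

instance monoidal : MonoidalCategory (Obj A) where
  tensorHom_def := tens_def
  whiskerLeft_id X Y := Quotient.sound (Rel.wl_id X Y)
  id_whiskerRight X Y := Quotient.sound (Rel.id_wr X Y)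
  id_tensorHom_id X Y := by
    rw [tens_def, show (𝟙 X) ▷ Y = 𝟙 (X ⊗ Y) from Quotient.sound (Rel.id_wr X Y),
      show X ◁ (𝟙 Y) = 𝟙 (X ⊗ Y) from Quotient.sound (Rel.wl_id X Y), Category.comp_id]
  tensorHom_comp_tensorHom {X₁ Y₁ Z₁ X₂ Y₂ Z₂} f₁ f₂ g₁ g₂ := by
    rw [tens_def, tens_def, tens_def, comp_wr', wl_comp', Category.assoc, Category.assoc,
      ← Category.assoc (Y₁ ◁ f₂), exchange', Category.assoc]
  associator_naturality := by
    rintro _ _ _ _ _ _ ⟨f₁⟩ ⟨f₂⟩ ⟨f₃⟩; exact Quotient.sound (Rel.assoc_nat f₁ f₂ f₃)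
  leftUnitor_naturality := by rintro _ _ ⟨f⟩; exact Quotient.sound (Rel.lu_nat f)
  rightUnitor_naturality := by rintro _ _ ⟨f⟩; exact Quotient.sound (Rel.ru_nat f)
  pentagon W X Y Z := Quotient.sound (Rel.pentagon W X Y Z)
  triangle X Y := Quotient.sound (Rel.triangle X Y)

instance symmetric : SymmetricCategory (Obj A) where
  braiding X Y := clsIso (.braid X Y)
  braiding_naturality_right := by rintro X _ _ ⟨f⟩; exact Quotient.sound (Rel.braid_nat_right X f)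
  braiding_naturality_left := by rintro _ _ ⟨f⟩ Z; exact Quotient.sound (Rel.braid_nat_left f Z)
  hexagon_forward X Y Z := Quotient.sound (Rel.hexagon₁ X Y Z)
  hexagon_reverse X Y Z := Quotient.sound (Rel.hexagon₂ X Y Z)
  symmetry X Y := Quotient.sound (Rel.symmetry X Y)

/-- the evaluation -/
def evIso (X : Obj A) : X ⊗ X.inv ≅ 𝟙_ (Obj A) := clsIso (.ev X)

theorem tensorLeft_isEquivalence (X : Obj A) : (tensorLeft X).IsEquivalence :=
  (CategoryTheory.Equivalence.mk (tensorLeft X) (tensorLeft X.inv)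
    ((leftUnitorNatIso (Obj A)).symm ≪≫ (tensoringLeft (Obj A)).mapIso ((evIso X).symm ≪≫ β_ X X.inv)
      ≪≫ tensorLeftTensor X.inv X)
    ((tensorLeftTensor X X.inv).symm ≪≫ (tensoringLeft (Obj A)).mapIso (evIso X) ≪≫ leftUnitorNatIso (Obj A))).isEquivalence_functor

theorem tensorRight_isEquivalence (X : Obj A) : (tensorRight X).IsEquivalence :=
  haveI := tensorLeft_isEquivalence X
  Functor.isEquivalence_of_iso (BraidedCategory.tensorLeftIsoTensorRight X)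

/-- the universal functor -/
def incl : A ⥤ Obj A where
  obj := .of
  map f := cls (.of f)
  map_id a := Quotient.sound (Rel.of_id a)
  map_comp f g := Quotient.sound (Rel.of_comp f g)

instance inclLaxBraided : (incl (A := A)).LaxBraided where
  ε := cls .one
  μ a b := cls (.mul a b)
  μ_natural_left f c := Quotient.sound (Rel.mul_left f c)
  μ_natural_right c f := Quotient.sound (Rel.mul_right c f)
  associativity a b c := Quotient.sound (Rel.mul_assoc' a b c)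
  left_unitality a := Quotient.sound (Rel.one_left a)
  right_unitality a := Quotient.sound (Rel.one_right a)
  braided a b := Quotient.sound (Rel.mul_braid a b)

section Lift

variable {P : Type u'} [Category.{v'} P] [MonoidalCategory P] [SymmetricCategory P] [IsGroupoid P]
  (hP : ∀ X : P, (tensorLeft X).IsEquivalence ∧ (tensorRight X).IsEquivalence) (Φ : A ⥤ P) [Φ.LaxBraided]

/-- a chosen inverse object -/
def invObj (X : P) : P := haveI := (hP X).1; (tensorLeft X).objPreimage (𝟙_ P)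

/-- its evaluation -/
def invObjIso (X : P) : X ⊗ invObj hP X ≅ 𝟙_ P := haveI := (hP X).1; (tensorLeft X).objObjPreimageIso (𝟙_ P)

/-- interpretation of objects -/
def obj : Obj A → P
  | .of a => Φ.obj a
  | .unit => 𝟙_ P
  | .tensor X Y => obj X ⊗ obj Y
  | .inv X => invObj hP (obj X)

/-- interpretation of morphisms -/
def interp : ∀ {X Y : Obj A}, Hom X Y → (obj hP Φ X ⟶ obj hP Φ Y)
  | _, _, .id X => 𝟙 _
  | _, _, .comp f g => interp f ≫ interp g
  | _, _, .sym f => CategoryTheory.inv (interp f)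
  | _, _, .wl X f => obj hP Φ X ◁ interp f
  | _, _, .wr f Z => interp f ▷ obj hP Φ Z
  | _, _, .assoc X Y Z => (α_ (obj hP Φ X) (obj hP Φ Y) (obj hP Φ Z)).hom
  | _, _, .lu X => (λ_ (obj hP Φ X)).hom
  | _, _, .ru X => (ρ_ (obj hP Φ X)).hom
  | _, _, .braid X Y => (β_ (obj hP Φ X) (obj hP Φ Y)).hom
  | _, _, .ev X => (invObjIso hP (obj hP Φ X)).hom
  | _, _, .of f => Φ.map f
  | _, _, .mul a b => μ Φ a b
  | _, _, .one => ε Φ

lemma interp_rel {X Y : Obj A} {f g : Hom X Y} (h : Rel f g) : interp hP Φ f = interp hP Φ g := by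
  induction h with
  | refl => rfl
  | symm _ ih => exact ih.symm
  | trans _ _ ih ih' => exact ih.trans ih'
  | comp _ _ ih ih' => simp only [interp, ih, ih']
  | sym _ ih => simp only [interp, ih]
  | wl _ _ ih => exact congrArg (fun t => _ ◁ t) ih
  | wr _ _ ih => exact congrArg (fun t => t ▷ _) ih
  | id_comp => simp [interp]
  | comp_id => simp [interp]
  | assoc' => simp [interp]
  | sym_comp => simp [interp]
  | comp_sym => simp [interp]
  | wl_id => simp [interp, obj]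
  | id_wr => simp [interp, obj]
  | wl_comp => exact MonoidalCategory.whiskerLeft_comp _ _ _
  | comp_wr => exact MonoidalCategory.comp_whiskerRight _ _ _
  | exchange => simp only [interp]; exact whisker_exchange _ _
  | assoc_nat f₁ f₂ f₃ =>
    have h := MonoidalCategory.associator_naturality (interp hP Φ f₁) (interp hP Φ f₂) (interp hP Φ f₃)
    simp only [tensorHom_def] at h
    exact h
  | lu_nat => simp only [interp, obj]; exact leftUnitor_naturality _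
  | ru_nat => simp only [interp, obj]; exact rightUnitor_naturality _
  | pentagon => simp only [interp, obj]; exact MonoidalCategory.pentagon _ _ _ _
  | triangle => simp only [interp, obj]; exact MonoidalCategory.triangle _ _
  | braid_nat_right => simp only [interp]; exact BraidedCategory.braiding_naturality_right _ _
  | braid_nat_left => simp only [interp]; exact BraidedCategory.braiding_naturality_left _ _
  | hexagon₁ => simp only [interp, obj]; exact BraidedCategory.hexagon_forward _ _ _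
  | hexagon₂ => simp only [interp, obj, IsIso.Iso.inv_hom]; exact BraidedCategory.hexagon_reverse _ _ _
  | symmetry => simp only [interp, obj]; exact SymmetricCategory.symmetry _ _
  | of_id => exact Φ.map_id _
  | of_comp => exact Φ.map_comp _ _
  | mul_left => simp only [interp, obj]; exact Functor.LaxMonoidal.μ_natural_left Φ _ _
  | mul_right => simp only [interp, obj]; exact Functor.LaxMonoidal.μ_natural_right Φ _ _
  | mul_assoc' => simp only [interp, obj]; exact Functor.LaxMonoidal.associativity Φ _ _ _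
  | one_left => simp only [interp, obj]; exact Functor.LaxMonoidal.left_unitality Φ _
  | one_right => simp only [interp, obj]; exact Functor.LaxMonoidal.right_unitality Φ _
  | mul_braid => simp only [interp, obj]; exact Functor.LaxBraided.braided _ _

/-- the extension of `Φ` -/
def lift : Obj A ⥤ P where
  obj := obj hP Φ
  map := Quotient.lift (interp hP Φ) fun _ _ => interp_rel hP Φ
  map_id _ := rfl
  map_comp := by rintro _ _ _ ⟨f⟩ ⟨g⟩; rfl

lemma lift_wr {X Y : Obj A} (f : X ⟶ Y) (Z : Obj A) : (lift hP Φ).map (f ▷ Z) = (lift hP Φ).map f ▷ obj hP Φ Z := by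
  obtain ⟨f⟩ := f; rfl

lemma lift_wl (Z : Obj A) {X Y : Obj A} (f : X ⟶ Y) : (lift hP Φ).map (Z ◁ f) = obj hP Φ Z ◁ (lift hP Φ).map f := by
  obtain ⟨f⟩ := f; rfl

instance liftLaxBraided : (lift hP Φ).LaxBraided where
  ε := 𝟙 (𝟙_ P)
  μ X Y := 𝟙 (obj hP Φ X ⊗ obj hP Φ Y)
  μ_natural_left f Z := by
    rw [lift_wr]; exact (Category.comp_id _).trans (Category.id_comp _).symm
  μ_natural_right Z f := by
    rw [lift_wl]; exact (Category.comp_id _).trans (Category.id_comp _).symm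
  associativity X Y Z := by
    change (𝟙 (obj hP Φ X ⊗ obj hP Φ Y)) ▷ obj hP Φ Z ≫ 𝟙 _ ≫ (α_ (obj hP Φ X) (obj hP Φ Y) (obj hP Φ Z)).hom =
      (α_ (obj hP Φ X) (obj hP Φ Y) (obj hP Φ Z)).hom ≫ obj hP Φ X ◁ 𝟙 _ ≫ 𝟙 (obj hP Φ X ⊗ obj hP Φ Y ⊗ obj hP Φ Z)
    simp
  left_unitality X := by
    change (λ_ (obj hP Φ X)).hom = (𝟙 (𝟙_ P)) ▷ obj hP Φ X ≫ 𝟙 _ ≫ (λ_ (obj hP Φ X)).hom
    simp
  right_unitality X := by
    change (ρ_ (obj hP Φ X)).hom = obj hP Φ X ◁ (𝟙 (𝟙_ P)) ≫ 𝟙 _ ≫ (ρ_ (obj hP Φ X)).hom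
    simp
  braided X Y := by
    change 𝟙 (obj hP Φ X ⊗ obj hP Φ Y) ≫ (β_ (obj hP Φ X) (obj hP Φ Y)).hom =
      (β_ (obj hP Φ X) (obj hP Φ Y)).hom ≫ 𝟙 (obj hP Φ Y ⊗ obj hP Φ X)
    simp

/-- the extension restricts to `Φ` -/
def inclLiftIso : incl ⋙ lift hP Φ ≅ Φ :=
  NatIso.ofComponents (fun a => Iso.refl _) fun f => (Category.comp_id _).trans (Category.id_comp _).symm

theorem inclLiftIso_isMonoidal : NatTrans.IsMonoidal (inclLiftIso hP Φ).hom where
  unit := (Category.comp_id _).trans (Category.id_comp _)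
  tensor a b := by
    change (𝟙 (Φ.obj a ⊗ Φ.obj b) ≫ μ Φ a b) ≫ 𝟙 (Φ.obj (a ⊗ b)) = (𝟙 (Φ.obj a) ⊗ₘ 𝟙 (Φ.obj b)) ≫ μ Φ a b
    simp

end Lift

section Extend

variable {P : Type u'} [Category.{v'} P] [MonoidalCategory P] [SymmetricCategory P] [IsGroupoid P]
  (hP : ∀ X : P, (tensorLeft X).IsEquivalence ∧ (tensorRight X).IsEquivalence)
  {Ψ Ψ' : Obj A ⥤ P} [Ψ.LaxBraided] [Ψ'.LaxBraided] (τ : incl ⋙ Ψ ⟶ incl ⋙ Ψ')

/-- the component of the extension of `τ` at a formal inverse -/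
def invApp (X : Obj A) (t : Ψ.obj X ⟶ Ψ'.obj X) : Ψ.obj X.inv ⟶ Ψ'.obj X.inv :=
  haveI := (hP (Ψ'.obj X)).1
  (tensorLeft (Ψ'.obj X)).preimage
    (CategoryTheory.inv (t ▷ Ψ.obj X.inv) ≫ (μ Ψ X X.inv ≫ Ψ.map (evIso X).hom ≫ CategoryTheory.inv (ε Ψ) ≫ ε Ψ') ≫
      CategoryTheory.inv (μ Ψ' X X.inv ≫ Ψ'.map (evIso X).hom))

lemma invApp_spec (X : Obj A) (t : Ψ.obj X ⟶ Ψ'.obj X) :
    (t ⊗ₘ invApp hP X t) ≫ μ Ψ' X X.inv ≫ Ψ'.map (evIso X).hom =
      μ Ψ X X.inv ≫ Ψ.map (evIso X).hom ≫ CategoryTheory.inv (ε Ψ) ≫ ε Ψ' := by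
  haveI := (hP (Ψ'.obj X)).1
  have h : Ψ'.obj X ◁ invApp hP X t = CategoryTheory.inv (t ▷ Ψ.obj X.inv) ≫
      (μ Ψ X X.inv ≫ Ψ.map (evIso X).hom ≫ CategoryTheory.inv (ε Ψ) ≫ ε Ψ') ≫
      CategoryTheory.inv (μ Ψ' X X.inv ≫ Ψ'.map (evIso X).hom) := (tensorLeft (Ψ'.obj X)).map_preimage _
  rw [tensorHom_def, h, Category.assoc, Category.assoc, IsIso.hom_inv_id_assoc, Category.assoc, IsIso.inv_hom_id,
    Category.comp_id]

/-- the components of the extension of `τ` -/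
def app : ∀ X : Obj A, Ψ.obj X ⟶ Ψ'.obj X
  | .of a => τ.app a
  | .unit => CategoryTheory.inv (ε Ψ) ≫ ε Ψ'
  | .tensor X Y => CategoryTheory.inv (μ Ψ X Y) ≫ (app X ⊗ₘ app Y) ≫ μ Ψ' X Y
  | .inv X => invApp hP X (app X)

lemma μ_app (X Y : Obj A) : μ Ψ X Y ≫ app hP τ (X ⊗ Y) = (app hP τ X ⊗ₘ app hP τ Y) ≫ μ Ψ' X Y :=
  IsIso.hom_inv_id_assoc _ _

lemma ε_app : ε Ψ ≫ app hP τ (𝟙_ (Obj A)) = ε Ψ' :=
  IsIso.hom_inv_id_assoc _ _

variable [NatTrans.IsMonoidal τ]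

lemma naturality {X Y : Obj A} (f : Hom X Y) :
    Ψ.map (cls f) ≫ app hP τ Y = app hP τ X ≫ Ψ'.map (cls f) := by
  induction f with
  | id X => change Ψ.map (𝟙 X) ≫ _ = _ ≫ Ψ'.map (𝟙 X); simp
  | @comp X Y Z f g hf hg =>
    change Ψ.map (cls f ≫ cls g) ≫ _ = _ ≫ Ψ'.map (cls f ≫ cls g)
    rw [Functor.map_comp, Functor.map_comp, Category.assoc, hg, reassoc_of% hf]
  | @sym X Y f hf =>
    change Ψ.map (clsIso f).inv ≫ _ = _ ≫ Ψ'.map (clsIso f).inv
    rw [← cancel_epi (Ψ.map (clsIso f).hom), ← Functor.map_comp_assoc, Iso.hom_inv_id,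
      CategoryTheory.Functor.map_id, Category.id_comp]
    change _ = Ψ.map (cls f) ≫ _
    rw [reassoc_of% hf, ← Functor.map_comp]
    change _ = _ ≫ Ψ'.map ((clsIso f).hom ≫ (clsIso f).inv)
    simp
  | @wl X Y Z f hf =>
    change Ψ.map (X ◁ cls f) ≫ _ = _ ≫ Ψ'.map (X ◁ cls f)
    rw [← cancel_epi (μ Ψ X Y), ← Functor.LaxMonoidal.μ_natural_right_assoc]
    erw [μ_app hP τ X Z, reassoc_of% (μ_app hP τ X Y)]
    rw [← Functor.LaxMonoidal.μ_natural_right, ← id_tensorHom, ← id_tensorHom, tensorHom_comp_tensorHom_assoc,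
      tensorHom_comp_tensorHom_assoc, Category.id_comp, Category.comp_id, hf]
  | @wr X Y f Z hf =>
    change Ψ.map (cls f ▷ Z) ≫ _ = _ ≫ Ψ'.map (cls f ▷ Z)
    rw [← cancel_epi (μ Ψ X Z), ← Functor.LaxMonoidal.μ_natural_left_assoc]
    erw [μ_app hP τ Y Z, reassoc_of% (μ_app hP τ X Z)]
    rw [← Functor.LaxMonoidal.μ_natural_left, ← tensorHom_id, ← tensorHom_id, tensorHom_comp_tensorHom_assoc,
      tensorHom_comp_tensorHom_assoc, Category.id_comp, Category.comp_id, hf]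
  | assoc X Y Z =>
    change Ψ.map (α_ X Y Z).hom ≫ app hP τ (X ⊗ Y ⊗ Z) = app hP τ ((X ⊗ Y) ⊗ Z) ≫ Ψ'.map (α_ X Y Z).hom
    rw [← cancel_epi (μ Ψ (X ⊗ Y) Z), ← cancel_epi (μ Ψ X Y ▷ Ψ.obj Z), reassoc_of% (μ_app hP τ (X ⊗ Y) Z),
      Functor.LaxMonoidal.associativity_assoc, μ_app hP τ X (Y ⊗ Z),
      ← id_tensorHom, tensorHom_comp_tensorHom_assoc, Category.id_comp, μ_app hP τ Y Z,
      ← tensorHom_id, tensorHom_comp_tensorHom_assoc, Category.id_comp, μ_app hP τ X Y]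
    calc (α_ (Ψ.obj X) (Ψ.obj Y) (Ψ.obj Z)).hom ≫
          (app hP τ X ⊗ₘ (app hP τ Y ⊗ₘ app hP τ Z) ≫ μ Ψ' Y Z) ≫ μ Ψ' X (Y ⊗ Z)
        = ((α_ (Ψ.obj X) (Ψ.obj Y) (Ψ.obj Z)).hom ≫ (app hP τ X ⊗ₘ (app hP τ Y ⊗ₘ app hP τ Z))) ≫
            Ψ'.obj X ◁ μ Ψ' Y Z ≫ μ Ψ' X (Y ⊗ Z) := by
          rw [Category.assoc, ← id_tensorHom, tensorHom_comp_tensorHom_assoc, Category.comp_id]
      _ = ((app hP τ X ⊗ₘ app hP τ Y) ⊗ₘ app hP τ Z) ≫
            μ Ψ' X Y ▷ Ψ'.obj Z ≫ μ Ψ' (X ⊗ Y) Z ≫ Ψ'.map (α_ X Y Z).hom := by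
          rw [← associator_naturality, Category.assoc, Functor.LaxMonoidal.associativity]
      _ = (((app hP τ X ⊗ₘ app hP τ Y) ≫ μ Ψ' X Y) ⊗ₘ app hP τ Z) ≫ μ Ψ' (X ⊗ Y) Z ≫ Ψ'.map (α_ X Y Z).hom := by
          rw [← tensorHom_id, tensorHom_comp_tensorHom_assoc, Category.comp_id]
  | lu X =>
    change Ψ.map (λ_ X).hom ≫ app hP τ X = app hP τ (𝟙_ (Obj A) ⊗ X) ≫ Ψ'.map (λ_ X).hom
    rw [← cancel_epi (μ Ψ (𝟙_ (Obj A)) X), ← cancel_epi (ε Ψ ▷ Ψ.obj X), reassoc_of% (μ_app hP τ (𝟙_ (Obj A)) X),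
      ← Functor.LaxMonoidal.left_unitality_assoc, ← tensorHom_id, tensorHom_comp_tensorHom_assoc, Category.id_comp,
      ε_app hP τ, tensorHom_def', Category.assoc, ← Functor.LaxMonoidal.left_unitality, leftUnitor_naturality]
  | ru X =>
    change Ψ.map (ρ_ X).hom ≫ app hP τ X = app hP τ (X ⊗ 𝟙_ (Obj A)) ≫ Ψ'.map (ρ_ X).hom
    rw [← cancel_epi (μ Ψ X (𝟙_ (Obj A))), ← cancel_epi (Ψ.obj X ◁ ε Ψ), reassoc_of% (μ_app hP τ X (𝟙_ (Obj A))),
      ← Functor.LaxMonoidal.right_unitality_assoc, ← id_tensorHom, tensorHom_comp_tensorHom_assoc, Category.id_comp,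
      ε_app hP τ, tensorHom_def, Category.assoc, ← Functor.LaxMonoidal.right_unitality, rightUnitor_naturality]
  | braid X Y =>
    change Ψ.map (β_ X Y).hom ≫ app hP τ (Y ⊗ X) = app hP τ (X ⊗ Y) ≫ Ψ'.map (β_ X Y).hom
    rw [← cancel_epi (μ Ψ X Y), reassoc_of% (μ_app hP τ X Y), Functor.LaxBraided.braided_assoc, μ_app hP τ Y X,
      Functor.LaxBraided.braided, ← Category.assoc, ← BraidedCategory.braiding_naturality, Category.assoc]
  | ev X =>
    change Ψ.map (evIso X).hom ≫ app hP τ (𝟙_ (Obj A)) = app hP τ (X ⊗ X.inv) ≫ Ψ'.map (evIso X).hom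
    rw [← cancel_epi (μ Ψ X X.inv), reassoc_of% (μ_app hP τ X X.inv)]
    exact (invApp_spec hP X (app hP τ X)).symm
  | of f => exact τ.naturality f
  | mul a b =>
    change Ψ.map (μ incl a b) ≫ τ.app (a ⊗ b) = app hP τ (incl.obj a ⊗ incl.obj b) ≫ Ψ'.map (μ incl a b)
    rw [← cancel_epi (μ Ψ (incl.obj a) (incl.obj b)), reassoc_of% (μ_app hP τ (incl.obj a) (incl.obj b))]
    have h := NatTrans.IsMonoidal.tensor (τ := τ) a b
    rw [Functor.LaxMonoidal.comp_μ, Functor.LaxMonoidal.comp_μ, Category.assoc] at h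
    exact h
  | one =>
    change Ψ.map (ε incl) ≫ τ.app (𝟙_ A) = app hP τ (𝟙_ (Obj A)) ≫ Ψ'.map (ε incl)
    rw [← cancel_epi (ε Ψ), reassoc_of% (ε_app hP τ)]
    have h := NatTrans.IsMonoidal.unit (τ := τ)
    rw [Functor.LaxMonoidal.comp_ε, Functor.LaxMonoidal.comp_ε, Category.assoc] at h
    exact h

include hP in
/-- monoidal natural transformations extend uniquely -/
theorem existsUnique_extend :
    ∃! θ : Ψ ⟶ Ψ', NatTrans.IsMonoidal θ ∧ Functor.whiskerLeft incl θ = τ := by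
  refine ⟨⟨app hP τ, fun X Y f => ?_⟩, ⟨⟨ε_app hP τ, μ_app hP τ⟩, rfl⟩, fun θ ⟨hθ, hθτ⟩ => ?_⟩
  · obtain ⟨f⟩ := f
    exact naturality hP τ f
  · ext X
    change θ.app X = app hP τ X
    induction X with
    | of a => exact congrArg (fun t => NatTrans.app t a) hθτ
    | unit => exact (cancel_epi (ε Ψ)).1 ((hθ.unit).trans (ε_app hP τ).symm)
    | tensor X Y hX hY =>
      refine (cancel_epi (μ Ψ X Y)).1 ((hθ.tensor X Y).trans ?_)
      rw [hX, hY]
      exact (μ_app hP τ X Y).symm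
    | inv X hX =>
      have h := (reassoc_of% (hθ.tensor X X.inv)) (Ψ'.map (evIso X).hom)
      erw [← θ.naturality] at h
      have h1 : θ.app (𝟙_ (Obj A)) = CategoryTheory.inv (ε Ψ) ≫ ε Ψ' := by
        rw [← hθ.unit, IsIso.inv_hom_id_assoc]
      rw [h1, hX, ← invApp_spec hP X (app hP τ X), cancel_mono] at h
      haveI := (hP (Ψ'.obj X)).1
      rw [tensorHom_def, tensorHom_def, cancel_epi] at h
      exact ((tensorLeft (Ψ'.obj X)).map_injective h).symm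

end Extend

end Groth.Agent.PicCat
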